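import Mathlib

/-!
# Overgroups of the monomial group inside an orthogonal group: vocabulary

`Fin n → F` with the dot product as form; reflections, monomial maps, the standing hypotheses and
the set `InY` of unit vectors whose reflection is paired with the coordinate reflections.
-/

set_option autoImplicit false

namespace Cfsg.Agent.OmegaTen.Mono

open Matrix

variable {F : Type*} [Field F] {n : ℕ}


/-- The standard basis vectors. -/
def e (i : Fin n) : (Fin n → F) := Pi.single i 1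

theorem e_same (i : Fin n) : e (F := F) i i = 1 := Pi.single_eq_same i 1

theorem e_ne {i j : Fin n} (h : j ≠ i) : e (F := F) i j = 0 := Pi.single_eq_of_ne h 1

theorem e_dot (i : Fin n) (v : (Fin n → F)) : e i ⬝ᵥ v = v i := by
  rw [e, single_dotProduct, one_mul]

theorem dot_e (i : Fin n) (v : (Fin n → F)) : v ⬝ᵥ e i = v i := by
  rw [e, dotProduct_single, mul_one]

theorem e_dot_self (i : Fin n) : e i ⬝ᵥ (e i : (Fin n → F)) = 1 := by rw [e_dot, e_same]

theorem e_dot_ne {i j : Fin n} (h : i ≠ j) : e i ⬝ᵥ (e j : (Fin n → F)) = 0 := by rw [e_dot, e_ne h]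

theorem e_ne_zero (i : Fin n) : (e i : (Fin n → F)) ≠ 0 := fun h => one_ne_zero
  (by rw [← e_same (F := F) i, h]; rfl)

theorem sum_e (v : (Fin n → F)) : ∑ i, v i • (e i : (Fin n → F)) = v := by
  ext j
  rw [Finset.sum_apply, Finset.sum_eq_single j (fun i _ h => by
    rw [Pi.smul_apply, e_ne (Ne.symm h), smul_zero]) (fun h => absurd (Finset.mem_univ _) h),
    Pi.smul_apply, e_same, smul_eq_mul, mul_one]

theorem ext_e {g h : ((Fin n → F) ≃ₗ[F] (Fin n → F))} (hgh : ∀ i, g (e i) = h (e i)) : g = h := by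
  apply LinearEquiv.ext
  intro v
  rw [← sum_e v, map_sum, map_sum]
  simp [hgh]

/-- The linear map of a reflection. -/
def mirror (u : (Fin n → F)) : (Fin n → F) →ₗ[F] (Fin n → F) where
  toFun v := v - (2 * (u ⬝ᵥ v) / (u ⬝ᵥ u)) • u
  map_add' v w := by
    simp only [dotProduct_add, mul_add, add_div, add_smul]
    abel
  map_smul' c v := by
    simp only [dotProduct_smul, smul_eq_mul, RingHom.id_apply, smul_sub, smul_smul]
    congr 2
    ring

theorem mirror_involutive (u : (Fin n → F)) : Function.Involutive (mirror u) := by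
  intro v
  by_cases h : u ⬝ᵥ u = 0
  · simp [mirror, h]
  show v - _ • u - (2 * (u ⬝ᵥ (v - _ • u)) / (u ⬝ᵥ u)) • u = v
  rw [dotProduct_sub, dotProduct_smul, smul_eq_mul]
  have : 2 * (u ⬝ᵥ v - 2 * (u ⬝ᵥ v) / (u ⬝ᵥ u) * (u ⬝ᵥ u)) / (u ⬝ᵥ u) =
      -(2 * (u ⬝ᵥ v) / (u ⬝ᵥ u)) := by
    rw [div_mul_cancel₀ _ h]; ring
  rw [this, neg_smul, sub_neg_eq_add, sub_add_cancel]

/-- The reflection in `u` (the identity if `u` is isotropic). -/
def R (u : (Fin n → F)) : ((Fin n → F) ≃ₗ[F] (Fin n → F)) := LinearEquiv.ofInvolutive (mirror u) (mirror_involutive u)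

theorem R_apply (u v : (Fin n → F)) : R u v = v - (2 * (u ⬝ᵥ v) / (u ⬝ᵥ u)) • u := rfl

theorem R_unit {u : (Fin n → F)} (hu : u ⬝ᵥ u = 1) (v : (Fin n → F)) : R u v = v - (2 * (u ⬝ᵥ v)) • u := by
  rw [R_apply, hu, div_one]

theorem R_of_ortho {u v : (Fin n → F)} (h : u ⬝ᵥ v = 0) : R u v = v := by
  rw [R_apply, h, mul_zero, zero_div, zero_smul, sub_zero]

theorem R_self {u : (Fin n → F)} (hu : u ⬝ᵥ u ≠ 0) : R u u = -u := by
  rw [R_apply, mul_div_cancel_right₀ _ hu, two_smul]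
  abel

theorem R_mul_self (u : (Fin n → F)) : R u * R u = 1 := LinearEquiv.ext (mirror_involutive u)

theorem R_inv (u : (Fin n → F)) : (R u)⁻¹ = R u := inv_eq_of_mul_eq_one_right (R_mul_self u)

theorem R_smul {c : F} (hc : c ≠ 0) (u : (Fin n → F)) : R (c • u) = R u := by
  apply LinearEquiv.ext
  intro v
  rw [R_apply, R_apply, smul_dotProduct, smul_dotProduct, dotProduct_smul, smul_smul]
  congr 2
  simp only [smul_eq_mul]
  by_cases h : u ⬝ᵥ u = 0
  · simp [h]
  field_simp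

theorem R_neg (u : (Fin n → F)) : R (-u) = R u := by
  rw [← neg_one_smul F u, R_smul (neg_ne_zero.mpr one_ne_zero)]

/-- Isometries. -/
def Iso (g : ((Fin n → F) ≃ₗ[F] (Fin n → F))) : Prop := ∀ v w, g v ⬝ᵥ g w = v ⬝ᵥ w

theorem Iso.mul {g h : ((Fin n → F) ≃ₗ[F] (Fin n → F))} (hg : Iso g) (hh : Iso h) : Iso (g * h) := fun v w => by
  rw [LinearEquiv.mul_apply, LinearEquiv.mul_apply, hg, hh]

theorem Iso.inv {g : ((Fin n → F) ≃ₗ[F] (Fin n → F))} (hg : Iso g) : Iso g⁻¹ := fun v w => by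
  conv_rhs => rw [← (show g (g⁻¹ v) = v from LinearEquiv.apply_symm_apply g v),
    ← (show g (g⁻¹ w) = w from LinearEquiv.apply_symm_apply g w), hg]

theorem R_iso (u : (Fin n → F)) : Iso (R u) := by
  intro v w
  by_cases h : u ⬝ᵥ u = 0
  · simp [R_apply, h]
  simp only [R_apply, sub_dotProduct, dotProduct_sub, smul_dotProduct, dotProduct_smul, smul_eq_mul,
    dotProduct_comm v u]
  field_simp
  ring

theorem R_conj {g : ((Fin n → F) ≃ₗ[F] (Fin n → F))} (hg : Iso g) (u : (Fin n → F)) : g * R u * g⁻¹ = R (g u) := by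
  apply LinearEquiv.ext
  intro v
  have hv : g (g⁻¹ v) = v := LinearEquiv.apply_symm_apply g v
  rw [LinearEquiv.mul_apply, LinearEquiv.mul_apply, R_apply, R_apply, map_sub, map_smul, hv]
  congr 3
  · conv_rhs => rw [← hv, hg]
  · rw [hg]

theorem R_conj' {g : ((Fin n → F) ≃ₗ[F] (Fin n → F))} (hg : Iso g) (u : (Fin n → F)) : g * R u = R (g u) * g := by
  rw [← R_conj hg u, inv_mul_cancel_right]

theorem R_mul_conj {g : ((Fin n → F) ≃ₗ[F] (Fin n → F))} (hg : Iso g) (u w : (Fin n → F)) : g * (R u * R w) * g⁻¹ = R (g u) * R (g w) := by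
  rw [← R_conj hg u, ← R_conj hg w]
  group

theorem det_R {u : (Fin n → F)} (hu : u ⬝ᵥ u ≠ 0) : LinearEquiv.det (R u) = -1 := by
  apply Units.ext
  rw [LinearEquiv.coe_det, Units.val_neg, Units.val_one, ← LinearMap.det_toMatrix']
  have h : LinearMap.toMatrix' ((R u : ((Fin n → F) ≃ₗ[F] (Fin n → F))) : (Fin n → F) →ₗ[F] (Fin n → F)) =
      1 + replicateCol (Fin 1) (-(2 / (u ⬝ᵥ u)) • u) * replicateRow (Fin 1) u := by
    ext i j
    rw [LinearMap.toMatrix'_apply, Matrix.add_apply, Matrix.mul_apply, Fin.sum_univ_one,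
      replicateCol_apply, replicateRow_apply]
    show R u (Pi.single j 1) i = _
    rw [R_apply, dotProduct_single, mul_one]
    simp only [Pi.sub_apply, Pi.smul_apply, smul_eq_mul, Matrix.one_apply, Pi.single_apply]
    ring
  rw [h]
  refine (det_one_add_replicateCol_mul_replicateRow (ι := Fin 1) _ _).trans ?_
  rw [dotProduct_smul, smul_eq_mul]
  field_simp
  ring

/-- The permutation of coordinates by `σ`. -/
def P (σ : Equiv.Perm (Fin n)) : ((Fin n → F) ≃ₗ[F] (Fin n → F)) := LinearEquiv.funCongrLeft F F σ.symm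

theorem P_apply (σ : Equiv.Perm (Fin n)) (v : (Fin n → F)) (i : Fin n) : P σ v i = v (σ.symm i) := rfl

theorem P_e (σ : Equiv.Perm (Fin n)) (i : Fin n) : P σ (e i : (Fin n → F)) = e (σ i) := by
  ext j
  rw [P_apply]
  by_cases h : j = σ i
  · rw [h, Equiv.symm_apply_apply, e_same, e_same]
  · rw [e_ne h, e_ne]
    rw [Ne, Equiv.symm_apply_eq]
    exact h

theorem P_iso (σ : Equiv.Perm (Fin n)) : Iso (P σ : ((Fin n → F) ≃ₗ[F] (Fin n → F))) := fun v w => by
  simp only [dotProduct, P_apply]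
  exact Equiv.sum_comp σ.symm fun i => v i * w i

/-- Monomial maps. -/
def IsMono (g : ((Fin n → F) ≃ₗ[F] (Fin n → F))) : Prop := ∀ i, ∃ (j : Fin n) (c : F), g (e i) = c • e j

/-- The standing hypotheses on an overgroup. -/
structure Ctx (L : Subgroup ((Fin n → F) ≃ₗ[F] (Fin n → F))) : Prop where
  two : (2 : F) ≠ 0
  dim : 10 ≤ n
  iso : ∀ g ∈ L, Iso g
  det : ∀ g ∈ L, LinearEquiv.det g = 1
  pair : ∀ i j : Fin n, R (e i : (Fin n → F)) * R (e j) ∈ L
  perm : ∀ σ : Equiv.Perm (Fin n), Equiv.Perm.sign σ = 1 → (P σ : ((Fin n → F) ≃ₗ[F] (Fin n → F))) ∈ L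
  diag : ∀ (a b c : Fin n), a ≠ b → c ≠ a → c ≠ b → ∀ α : F, 2 * α * α = 1 →
    R (α • e a + α • e b : (Fin n → F)) * R (e c) ∈ L

/-- Unit vectors paired with the coordinate reflections. -/
def InY (L : Subgroup ((Fin n → F) ≃ₗ[F] (Fin n → F))) (v : (Fin n → F)) : Prop := v ⬝ᵥ v = 1 ∧ ∀ i, R v * R (e i) ∈ L

namespace Ctx

variable {L : Subgroup ((Fin n → F) ≃ₗ[F] (Fin n → F))} (h : Ctx L)

include h

theorem n_pos : 0 < n := by have := h.dim; omega

theorem inY_of {v : (Fin n → F)} (hv : v ⬝ᵥ v = 1) {i : Fin n} (hp : R v * R (e i) ∈ L) : InY L v := by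
  refine ⟨hv, fun j => ?_⟩
  have := L.mul_mem hp (h.pair i j)
  rwa [mul_assoc, ← mul_assoc (R (e i : (Fin n → F))) (R (e i)), R_mul_self, one_mul] at this

theorem inY_e (i : Fin n) : InY L (e i : (Fin n → F)) := h.inY_of (e_dot_self i) (h.pair i i)

theorem inY_pair {v w : (Fin n → F)} (hv : InY L v) (hw : InY L w) : R v * R w ∈ L := by
  let i : Fin n := ⟨0, h.n_pos⟩
  have := L.mul_mem (hv.2 i) (L.inv_mem (hw.2 i))
  rwa [_root_.mul_inv_rev, R_inv, R_inv, mul_assoc, ← mul_assoc (R (e i : (Fin n → F))) (R (e i)), R_mul_self,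
    one_mul] at this

theorem inY_R {v w : (Fin n → F)} (hv : InY L v) (hw : InY L w) : InY L (R w v) := by
  let i : Fin n := ⟨0, h.n_pos⟩
  refine h.inY_of (by rw [R_iso, hv.1]) (i := i) ?_
  have := L.mul_mem (h.inY_pair hw hv) (hw.2 i)
  rw [← R_conj (R_iso w) v, R_inv]
  rwa [← mul_assoc] at this

theorem inY_map {g : ((Fin n → F) ≃ₗ[F] (Fin n → F))} (hg : g ∈ L) {i : Fin n} (hi : InY L (g (e i))) {v : (Fin n → F)} (hv : InY L v) :
    InY L (g v) := by
  let j : Fin n := ⟨0, h.n_pos⟩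
  have hgI := h.iso g hg
  refine h.inY_of (by rw [hgI, hv.1]) (i := j) ?_
  have h1 : R (g v) * R (g (e i)) ∈ L := by
    rw [← R_mul_conj hgI]
    exact L.mul_mem (L.mul_mem hg (hv.2 i)) (L.inv_mem hg)
  have := L.mul_mem h1 (hi.2 j)
  rwa [mul_assoc, ← mul_assoc (R (g (e i))) (R (g (e i))), R_mul_self, one_mul] at this

theorem inY_perm {σ : Equiv.Perm (Fin n)} (hσ : Equiv.Perm.sign σ = 1) {v : (Fin n → F)} (hv : InY L v) :
    InY L (P σ v) := by
  let i : Fin n := ⟨0, h.n_pos⟩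
  exact h.inY_map (h.perm σ hσ) (i := i) (by rw [P_e]; exact h.inY_e _) hv

theorem inY_flip {v : (Fin n → F)} (hv : InY L v) (i : Fin n) : InY L (R (e i) v) := h.inY_R hv (h.inY_e i)

theorem inY_neg {v : (Fin n → F)} (hv : InY L v) : InY L (-v) := by
  refine ⟨by rw [neg_dotProduct, dotProduct_neg, neg_neg, hv.1], fun i => ?_⟩
  rw [R_neg]
  exact hv.2 i

theorem det_eq {g : ((Fin n → F) ≃ₗ[F] (Fin n → F))} (hg : g ∈ L) : LinearEquiv.det g = 1 := h.det g hg

end Ctx

end Cfsg.Agent.OmegaTen.Mono
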