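import Cfsg.Agent.Lib.OmegaTen.Mono.Basic

/-!
Monomial reflection pairs, diagonal vectors, and the block lemma.
-/

set_option autoImplicit false

namespace Cfsg.Agent.OmegaTen.Mono

open Matrix

variable {F : Type*} [Field F] {n : ℕ}

/-- `v` is a multiple of a standard basis vector. -/
def IsAxis (v : (Fin n → F)) : Prop := ∃ (i : Fin n) (c : F), v = c • e i

/-- `v` is a unit vector on two coordinates with equal squares. -/
def IsDiag (v : (Fin n → F)) : Prop :=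
  ∃ a b : Fin n, a ≠ b ∧ v ⬝ᵥ v = 1 ∧ v a * v a = v b * v b ∧ v a ≠ 0 ∧ ∀ i, i ≠ a → i ≠ b → v i = 0

theorem axis_sq {v : (Fin n → F)} (hv : v ⬝ᵥ v = 1) {i : Fin n} {c : F} (h : v = c • e i) :
    c * c = 1 := by
  rw [h, smul_dotProduct, dotProduct_smul, e_dot_self, smul_eq_mul, smul_eq_mul, mul_one] at hv
  exact hv

theorem dot_two {v w : (Fin n → F)} {a b : Fin n} (hab : a ≠ b)
    (h : ∀ i, i ≠ a → i ≠ b → v i = 0) : v ⬝ᵥ w = v a * w a + v b * w b := by
  rw [dotProduct, ← Finset.sum_subset (Finset.subset_univ ({a, b} : Finset (Fin n)))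
    (fun i _ hi => ?_), Finset.sum_pair hab]
  simp only [Finset.mem_insert, Finset.mem_singleton, not_or] at hi
  rw [h i hi.1 hi.2, zero_mul]

theorem diag_val {v : (Fin n → F)} {a b : Fin n} (hab : a ≠ b) (hv : v ⬝ᵥ v = 1)
    (hsq : v a * v a = v b * v b) (h : ∀ i, i ≠ a → i ≠ b → v i = 0) :
    2 * v a * v a = 1 ∧ 2 * v b * v b = 1 := by
  rw [dot_two hab h] at hv
  exact ⟨by linear_combination hv + hsq, by linear_combination hv - hsq⟩

/-- The vector of a monomial map at a basis vector. -/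
theorem mono_pair {g : ((Fin n → F) ≃ₗ[F] (Fin n → F))} (hg : Iso g) {i j : Fin n} {c : F}
    (h : g (e i) = c • e j) : c * c = 1 := axis_sq (by rw [hg, e_dot_self]) h

theorem mono_back {g : ((Fin n → F) ≃ₗ[F] (Fin n → F))} (hg : Iso g) (hg2 : g * g = 1)
    {i j : Fin n} {c : F} (h : g (e i) = c • e j) : g (e j) = c • e i := by
  have h1 : g (g (e i)) = e i := by rw [← LinearEquiv.mul_apply, hg2]; rfl
  rw [h, map_smul] at h1
  calc g (e j) = (c * c) • g (e j) := by rw [mono_pair hg h, one_smul]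
    _ = c • e i := by rw [← smul_smul, h1]

theorem mono_inj {g : ((Fin n → F) ≃ₗ[F] (Fin n → F))} (hg : Iso g) {i i' j : Fin n} {c c' : F}
    (h : g (e i) = c • e j) (h' : g (e i') = c' • e j) : i = i' := by
  by_contra hne
  have h0 := hg (e i) (e i')
  rw [h, h', smul_dotProduct, dotProduct_smul, e_dot_self, e_dot_ne hne, smul_eq_mul, smul_eq_mul,
    mul_one] at h0
  have h1 := mono_pair hg h
  rcases mul_eq_zero.mp h0 with h2 | h2
  · rw [h2, zero_mul] at h1; exact zero_ne_one h1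
  · have h3 := mono_pair hg h'
    rw [h2, zero_mul] at h3; exact zero_ne_one h3

/-- Two orthogonal non-isotropic pairs of scalars leave nothing orthogonal to both. -/
theorem two_orth {a₁ a₂ b₁ b₂ c₁ c₂ : F} (ha : a₁ * a₁ + a₂ * a₂ ≠ 0) (hb : b₁ * b₁ + b₂ * b₂ ≠ 0)
    (hab : a₁ * b₁ + a₂ * b₂ = 0) (hac : a₁ * c₁ + a₂ * c₂ = 0) (hbc : b₁ * c₁ + b₂ * c₂ = 0) :
    c₁ = 0 ∧ c₂ = 0 := by
  have hd : a₁ * b₂ - a₂ * b₁ ≠ 0 := fun h0 => mul_ne_zero ha hb
    (by linear_combination (a₁ * b₁ + a₂ * b₂) * hab + (a₁ * b₂ - a₂ * b₁) * h0)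
  exact ⟨(mul_eq_zero.mp (by linear_combination b₂ * hac - a₂ * hbc :
      (a₁ * b₂ - a₂ * b₁) * c₁ = 0)).resolve_left hd,
    (mul_eq_zero.mp (by linear_combination -b₁ * hac + a₁ * hbc :
      (a₁ * b₂ - a₂ * b₁) * c₂ = 0)).resolve_left hd⟩

theorem pair_dev {x y : (Fin n → F)} (hx : x ⬝ᵥ x = 1) (hy : y ⬝ᵥ y = 1) (hxy : x ⬝ᵥ y = 0)
    (v : (Fin n → F)) :
    (R x * R y) v = v - (2 * (x ⬝ᵥ v)) • x - (2 * (y ⬝ᵥ v)) • y := by
  rw [LinearEquiv.mul_apply, R_unit hx, R_unit hy, dotProduct_sub, dotProduct_smul, hxy, smul_zero,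
    sub_zero]
  abel

theorem pair_sq {x y : (Fin n → F)} (hx : x ⬝ᵥ x = 1) (hy : y ⬝ᵥ y = 1) (hxy : x ⬝ᵥ y = 0) :
    (R x * R y) * (R x * R y) = 1 := by
  have hc : R x * R y = R y * R x := by
    apply LinearEquiv.ext
    intro v
    rw [pair_dev hx hy hxy, pair_dev hy hx (by rw [dotProduct_comm]; exact hxy)]
    abel
  conv_lhs => arg 2; rw [hc]
  rw [mul_assoc, ← mul_assoc (R y) (R y), R_mul_self, one_mul, R_mul_self]

/-- A monomial reflection pair: its first vector is an axis, a diagonal vector, or it spans the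
support of the pair, and that support has at most four points. -/
theorem pair_cases (h2 : (2 : F) ≠ 0) {x y : (Fin n → F)} (hx : x ⬝ᵥ x = 1) (hy : y ⬝ᵥ y = 1)
    (hxy : x ⬝ᵥ y = 0) (hg : IsMono (R x * R y)) :
    IsAxis x ∨ IsDiag x ∨
      ((∀ i, x i = 0 → y i = 0) ∧
        ∀ S : Finset (Fin n), (∀ i ∈ S, x i ≠ 0) → S.card ≤ 4) := by
  classical
  set g := R x * R y with hgdef
  have hgI : Iso g := (R_iso x).mul (R_iso y)
  have hg2 : g * g = 1 := pair_sq hx hy hxy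
  choose π c hπ using hg
  have hd : ∀ i, c i • e (π i) = e i - (2 * x i) • x - (2 * y i) • y := fun i => by
    rw [← hπ i, hgdef, pair_dev hx hy hxy, dot_e, dot_e]
  have hgx : g x = -x := by
    rw [hgdef, pair_dev hx hy hxy, hx, dotProduct_comm y x, hxy]
    module
  have hxπ : ∀ i, x i = -(c i * x (π i)) := fun i => by
    have h0 := hgI x (e i)
    rw [hgx, hπ, neg_dotProduct, dotProduct_smul, dot_e, dot_e, smul_eq_mul] at h0
    exact h0.symm
  by_cases hout : ∀ i, x i = 0 → y i = 0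
  swap
  · push Not at hout
    obtain ⟨i₀, hx₀, hy₀⟩ := hout
    have hyk : ∀ k, k ≠ i₀ → k ≠ π i₀ → y k = 0 := fun k hk hk' => by
      have h0 := congrFun (hd i₀) k
      simp only [Pi.smul_apply, Pi.sub_apply, e_ne hk, e_ne hk', smul_eq_mul, hx₀, mul_zero,
        zero_mul, sub_zero, zero_sub] at h0
      exact (mul_eq_zero.mp (neg_eq_zero.mp h0.symm)).resolve_left (mul_ne_zero h2 hy₀)
    have hxπ₀ : x (π i₀) = 0 := by
      have h0 := hxπ i₀
      rw [hx₀] at h0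
      refine (mul_eq_zero.mp (neg_eq_zero.mp h0.symm)).resolve_left fun hc => ?_
      have h1 := mono_pair hgI (hπ i₀)
      rw [hc, zero_mul] at h1; exact zero_ne_one h1
    obtain ⟨i, hi⟩ : ∃ i, x i ≠ 0 := by
      by_contra hc
      push Not at hc
      have : x = 0 := funext hc
      rw [this, zero_dotProduct] at hx; exact zero_ne_one hx
    have hyi : y i = 0 := hyk i (fun h => hi (h ▸ hx₀)) (fun h => hi (h ▸ hxπ₀))
    have h0 := hd i
    rw [hyi, mul_zero, zero_smul, sub_zero] at h0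
    have h2i : (2 * x i) ≠ 0 := mul_ne_zero h2 hi
    have hxe : x = (2 * x i)⁻¹ • (e i - c i • e (π i)) := by
      rw [h0, sub_sub_cancel, smul_smul, inv_mul_cancel₀ h2i, one_smul]
    by_cases hπi : π i = i
    · refine Or.inl ⟨i, (2 * x i)⁻¹ * (1 - c i), ?_⟩
      conv_lhs => rw [hxe, hπi]
      rw [mul_smul, sub_smul, one_smul]
    · refine Or.inr (Or.inl ⟨i, π i, Ne.symm hπi, hx, ?_, hi, fun k hk hk' => ?_⟩)
      · have h3 := hxπ i
        have h1 := mono_pair hgI (hπ i)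
        linear_combination (x i - c i * x (π i)) * h3 + x (π i) * x (π i) * h1
      · rw [hxe]; simp [e_ne hk, e_ne hk']
  refine Or.inr (Or.inr ⟨hout, fun S hS => ?_⟩)
  by_contra hS4
  -- three moved indices with disjoint orbits
  obtain ⟨i₁, hi₁⟩ : S.Nonempty := Finset.card_pos.mp (by omega)
  obtain ⟨i₂, hi₂, hi₂'⟩ := Finset.exists_mem_notMem_of_card_lt_card
    (s := {i₁, π i₁}) (t := S) (lt_of_le_of_lt Finset.card_le_two (by omega))
  obtain ⟨i₃, hi₃, hi₃'⟩ := Finset.exists_mem_notMem_of_card_lt_card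
    (s := {i₁, π i₁, i₂, π i₂}) (t := S) (lt_of_le_of_lt Finset.card_le_four (by omega))
  simp only [Finset.mem_insert, Finset.mem_singleton, not_or] at hi₂' hi₃'
  have hback : ∀ i, π (π i) = i := fun i => by
    have h1 := mono_back hgI hg2 (hπ i)
    rw [hπ (π i)] at h1
    by_contra hne
    have h3 := congrFun h1 (π (π i))
    rw [Pi.smul_apply, Pi.smul_apply, e_same, e_ne hne, smul_eq_mul, smul_eq_mul, mul_one,
      mul_zero] at h3
    have h4 := mono_pair hgI (hπ (π i))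
    rw [h3, zero_mul] at h4; exact zero_ne_one h4
  -- products of deviations
  have hdot : ∀ i k, (c i • e (π i) - e i : (Fin n → F)) ⬝ᵥ (c k • e (π k) - e k) =
      4 * (x i * x k + y i * y k) := fun i k => by
    rw [hd i, hd k]
    simp only [sub_dotProduct, dotProduct_sub, smul_dotProduct, dotProduct_smul, smul_eq_mul,
      e_dot, dot_e, hx, hy, hxy, dotProduct_comm y x]
    ring
  have h4 : (4 : F) ≠ 0 := by rw [show (4 : F) = 2 * 2 by norm_num]; exact mul_ne_zero h2 h2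
  have horth : ∀ i k, k ≠ i → k ≠ π i → x i * x k + y i * y k = 0 := fun i k hk hk' => by
    have h0 := hdot i k
    have hπk : π k ≠ π i := fun h => hk (by rw [← hback k, h, hback])
    have hπk' : π k ≠ i := fun h => hk' (by rw [← h, hback])
    simp only [sub_dotProduct, dotProduct_sub, smul_dotProduct, dotProduct_smul, smul_eq_mul,
      e_dot_ne (Ne.symm hπk), e_dot_ne (Ne.symm hk), e_dot_ne (Ne.symm hk'), e_dot_ne (Ne.symm hπk'),
      mul_zero, sub_zero] at h0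
    exact (mul_eq_zero.mp h0.symm).resolve_left h4
  have hne : ∀ i ∈ S, x i * x i + y i * y i ≠ 0 := fun i hi h0 => by
    have h := hdot i i
    rw [h0, mul_zero] at h
    by_cases hπi : π i = i
    · rw [hπi, ← sub_one_smul_eq, smul_dotProduct, dotProduct_smul, e_dot_self, smul_eq_mul,
        smul_eq_mul, mul_one] at h
      have hc : c i = 1 := by
        rcases mul_eq_zero.mp h with h' | h' <;> linear_combination h'
      have h1 := hxπ i
      rw [hπi, hc, one_mul] at h1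
      exact hS i hi ((mul_eq_zero.mp (by linear_combination h1 : (2 : F) * x i = 0)).resolve_left h2)
    · simp only [sub_dotProduct, dotProduct_sub, smul_dotProduct, dotProduct_smul, smul_eq_mul,
        e_dot_self, e_dot_ne hπi, e_dot_ne (Ne.symm hπi), mono_pair hgI (hπ i), mul_zero,
        mul_one, sub_zero, zero_sub, sub_neg_eq_add] at h
      exact h2 (by linear_combination h)
  exact hS i₃ hi₃ (two_orth (hne i₁ hi₁) (hne i₂ hi₂) (horth i₁ i₂ hi₂'.1 hi₂'.2)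
    (horth i₁ i₃ hi₃'.1 hi₃'.2.1) (horth i₂ i₃ hi₃'.2.2.1 hi₃'.2.2.2)).1
where
  sub_one_smul_eq {i : Fin n} {a : F} : (a - 1) • (e i : (Fin n → F)) = a • e i - e i := by
    rw [sub_smul, one_smul]

/-- The image of a basis vector paired monomially with five others is an axis or diagonal. -/
theorem line_cases (h2 : (2 : F) ≠ 0) {g : ((Fin n → F) ≃ₗ[F] (Fin n → F))} (hg : Iso g)
    (k : Fin n) (K : Finset (Fin n)) (hK : 5 ≤ K.card) (hk : k ∉ K)
    (hm : ∀ l ∈ K, IsMono (R (g (e k)) * R (g (e l)))) : IsAxis (g (e k)) ∨ IsDiag (g (e k)) := by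
  classical
  by_contra hc
  push Not at hc
  set x := g (e k)
  have hu : ∀ i, g (e i) ⬝ᵥ g (e i) = 1 := fun i => by rw [hg, e_dot_self]
  have hall : ∀ l ∈ K, (∀ i, x i = 0 → g (e l) i = 0) ∧
      ∀ S : Finset (Fin n), (∀ i ∈ S, x i ≠ 0) → S.card ≤ 4 := fun l hl =>
    ((pair_cases h2 (hu k) (hu l) (by rw [hg, e_dot_ne (fun he => hk (by rw [he]; exact hl))])
      (hm l hl)).resolve_left hc.1).resolve_left hc.2
  set S := Finset.univ.filter fun i => x i ≠ 0 with hS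
  have hSc : S.card ≤ 4 := by
    obtain ⟨l, hl⟩ : K.Nonempty := Finset.card_pos.mp (by omega)
    exact (hall l hl).2 S fun i hi => (Finset.mem_filter.mp hi).2
  have hli : LinearIndependent F fun l : K => fun i : S => g (e (l : Fin n)) (i : Fin n) := by
    rw [Fintype.linearIndependent_iff]
    intro a ha m
    have h0 : ∀ l : K, ∑ i : S, g (e (m : Fin n)) (i : Fin n) * g (e (l : Fin n)) (i : Fin n) =
        g (e (m : Fin n)) ⬝ᵥ g (e (l : Fin n)) := fun l => by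
      rw [Finset.sum_coe_sort S fun i => g (e (m : Fin n)) i * g (e (l : Fin n)) i, dotProduct]
      refine Finset.sum_subset (Finset.subset_univ S) fun i _ hi => ?_
      rw [(hall l l.2).1 i (by simpa [hS] using hi), mul_zero]
    have h1 := congrArg (fun v : S → F => ∑ i : S, g (e (m : Fin n)) (i : Fin n) * v i) ha
    simp only [Finset.sum_apply, Pi.smul_apply, smul_eq_mul, Pi.zero_apply, mul_zero,
      Finset.sum_const_zero, Finset.mul_sum] at h1
    rw [Finset.sum_comm, Finset.sum_eq_single m] at h1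
    · rw [← h1]
      simp only [mul_left_comm _ (a m), ← Finset.mul_sum, h0, hu, mul_one]
    · intro l _ hlm
      simp only [mul_left_comm _ (a l), ← Finset.mul_sum, h0]
      rw [hg, e_dot_ne (fun he => hlm (Subtype.ext he.symm)), mul_zero]
    · simp
  have := hli.fintype_card_le_finrank
  rw [Fintype.card_coe, Module.finrank_fintype_fun_eq_card, Fintype.card_coe] at this
  omega

/-- A coordinate of a diagonal image meets exactly two images, on the same support. -/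
theorem diag_coord (h2 : (2 : F) ≠ 0) {h : ((Fin n → F) ≃ₗ[F] (Fin n → F))} (hh : Iso h)
    (S : Finset (Fin n)) (hshape : ∀ k ∈ S, IsAxis (h (e k)) ∨ IsDiag (h (e k)))
    (hout : ∀ k ∈ S, ∀ l ∉ S, ∀ i, h (e k) i ≠ 0 → h (e l) i = 0)
    {k₁ : Fin n} (hk₁ : k₁ ∈ S) {a b : Fin n} (hab : a ≠ b)
    (hz : ∀ i, i ≠ a → i ≠ b → h (e k₁) i = 0)
    (hsq : h (e k₁) a * h (e k₁) a = h (e k₁) b * h (e k₁) b) :
    ∃ k₂ ∈ S, k₂ ≠ k₁ ∧ h (e k₂) a ≠ 0 ∧ h (e k₂) b ≠ 0 ∧
      (∀ i, i ≠ a → i ≠ b → h (e k₂) i = 0) ∧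
      h⁻¹ (e a) = h (e k₁) a • e k₁ + h (e k₂) a • e k₂ ∧
      ∀ m, m ≠ k₁ → m ≠ k₂ → h (e m) a = 0 ∧ h (e m) b = 0 := by
  have hu : ∀ i, h (e i) ⬝ᵥ h (e i) = 1 := fun i => by rw [hh, e_dot_self]
  obtain ⟨hva, hvb⟩ := diag_val hab (hu k₁) hsq hz
  set α := h (e k₁) a with hα
  set β := h (e k₁) b with hβ
  have hα0 : α ≠ 0 := fun h0 => by rw [h0, mul_zero] at hva; exact zero_ne_one hva
  have hβ0 : β ≠ 0 := fun h0 => by rw [h0, mul_zero] at hvb; exact zero_ne_one hvb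
  set x := h⁻¹ (e a) with hx
  have hxl : ∀ l, x l = h (e l) a := fun l => by
    rw [← dot_e l x, ← hh, hx, show h (h⁻¹ (e a)) = e a from LinearEquiv.apply_symm_apply h _,
      e_dot]
  -- every other image meeting `a` lives on `{a, b}`
  have hon : ∀ l, l ≠ k₁ → (h (e l) a ≠ 0 ∨ h (e l) b ≠ 0) →
      h (e l) a ≠ 0 ∧ h (e l) b ≠ 0 ∧ ∀ i, i ≠ a → i ≠ b → h (e l) i = 0 := by
    intro l hl hne
    have hlS : l ∈ S := by
      by_contra hlS
      rcases hne with h1 | h1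
      · exact h1 (hout k₁ hk₁ l hlS a hα0)
      · exact h1 (hout k₁ hk₁ l hlS b hβ0)
    have horth : α * h (e l) a + β * h (e l) b = 0 := by
      rw [hα, hβ, ← dot_two hab hz, hh, e_dot_ne (Ne.symm hl)]
    have ha : h (e l) a ≠ 0 := fun h0 => by
      rw [h0, mul_zero, zero_add] at horth
      exact hne.elim (fun h' => h' h0) fun h' => h' ((mul_eq_zero.mp horth).resolve_left hβ0)
    have hb : h (e l) b ≠ 0 := fun h0 => by
      rw [h0, mul_zero, add_zero] at horth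
      exact ha ((mul_eq_zero.mp horth).resolve_left hα0)
    refine ⟨ha, hb, fun i hia hib => ?_⟩
    rcases hshape l hlS with ⟨j, c, hj⟩ | ⟨a', b', _, -, -, -, hz'⟩
    · exfalso
      have h1 : j = a := by
        by_contra hne'; exact ha (by rw [hj, Pi.smul_apply, e_ne (Ne.symm hne'), smul_zero])
      have h3 : j = b := by
        by_contra hne'; exact hb (by rw [hj, Pi.smul_apply, e_ne (Ne.symm hne'), smul_zero])
      exact hab (h1.symm.trans h3)
    · have e1 : a = a' ∨ a = b' := by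
        by_contra hc; push Not at hc; exact ha (hz' a hc.1 hc.2)
      have e2 : b = a' ∨ b = b' := by
        by_contra hc; push Not at hc; exact hb (hz' b hc.1 hc.2)
      refine hz' i ?_ ?_ <;> rintro rfl <;> rcases e1 with rfl | rfl <;> rcases e2 with rfl | rfl <;>
        simp_all
  have hone : x ⬝ᵥ x = 1 := by rw [hx, hh.inv, e_dot_self]
  obtain ⟨k₂, hk₂, hk₂a⟩ : ∃ k, k ≠ k₁ ∧ x k ≠ 0 := by
    by_contra hc
    push Not at hc
    rw [dotProduct, Finset.sum_eq_single k₁ (fun l _ hl => by rw [hc l hl, mul_zero])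
      (fun h' => absurd (Finset.mem_univ _) h'), hxl, ← hα] at hone
    have h0 : (2 : F) * α * α = 2 := by rw [mul_assoc, hone, mul_one]
    rw [hva] at h0
    exact one_ne_zero (by linear_combination -h0 : (1 : F) = 0)
  rw [hxl] at hk₂a
  obtain ⟨-, hk₂b, hz₂⟩ := hon k₂ hk₂ (Or.inl hk₂a)
  have hk₂S : k₂ ∈ S := by
    by_contra hS; exact hk₂a (hout k₁ hk₁ k₂ hS a hα0)
  have hrest : ∀ m, m ≠ k₁ → m ≠ k₂ → h (e m) a = 0 ∧ h (e m) b = 0 := by
    intro m hm1 hm2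
    by_contra hc
    have hne : h (e m) a ≠ 0 ∨ h (e m) b ≠ 0 := by
      by_contra h'; push Not at h'; exact hc h'
    obtain ⟨hma, -, hzm⟩ := hon m hm1 hne
    refine hma (two_orth (a₁ := α) (a₂ := β) (b₁ := h (e k₂) a) (b₂ := h (e k₂) b)
      (c₂ := h (e m) b) ?_ ?_ ?_ ?_ ?_).1
    · rw [hα, hβ, ← dot_two hab hz, hu]; exact one_ne_zero
    · rw [← dot_two hab hz₂, hu]; exact one_ne_zero
    · rw [hα, hβ, ← dot_two hab hz, hh, e_dot_ne (Ne.symm hk₂)]
    · rw [hα, hβ, ← dot_two hab hz, hh, e_dot_ne (Ne.symm hm1)]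
    · rw [← dot_two hab hz₂, hh, e_dot_ne (Ne.symm hm2)]
  refine ⟨k₂, hk₂S, hk₂, hk₂a, hk₂b, hz₂, ?_, hrest⟩
  ext l
  rw [Pi.add_apply, Pi.smul_apply, Pi.smul_apply, smul_eq_mul, smul_eq_mul]
  show x l = _
  rw [hxl]
  by_cases h1 : l = k₁
  · subst h1; rw [e_same, e_ne (Ne.symm hk₂)]; simp [hα]
  by_cases h3 : l = k₂
  · subst h3; rw [e_same, e_ne h1]; simp
  rw [(hrest l h1 h3).1, e_ne h1, e_ne h3]; simp

/-- **Block lemma**: images which are axes or diagonal, one of them diagonal, give a non-monomial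
element fixing an axis. -/
theorem Ctx.exists_fix_wide {L : Subgroup ((Fin n → F) ≃ₗ[F] (Fin n → F))} (hL : Ctx L)
    {h : ((Fin n → F) ≃ₗ[F] (Fin n → F))} (hmem : h ∈ L)
    (S : Finset (Fin n)) (hS : 6 ≤ S.card)
    (hshape : ∀ k ∈ S, IsAxis (h (e k)) ∨ IsDiag (h (e k)))
    (hout : ∀ k ∈ S, ∀ l ∉ S, ∀ i, h (e k) i ≠ 0 → h (e l) i = 0)
    {k₁ : Fin n} (hk₁ : k₁ ∈ S) (hdiag : IsDiag (h (e k₁))) :
    ∃ q ∈ L, (∃ c, q (e c) = e c) ∧ ∃ i i₁ i₂ i₃ : Fin n, i₁ ≠ i₂ ∧ i₁ ≠ i₃ ∧ i₂ ≠ i₃ ∧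
      q (e i) i₁ ≠ 0 ∧ q (e i) i₂ ≠ 0 ∧ q (e i) i₃ ≠ 0 := by
  classical
  have hh := hL.iso h hmem
  obtain ⟨a, b, hab, -, hsq, ha0, hz⟩ := hdiag
  obtain ⟨k₂, -, hk₂, hk₂a, hk₂b, hz₂, hxa, hrest⟩ :=
    diag_coord hL.two hh S hshape hout hk₁ hab hz hsq
  obtain ⟨k₀, hk₀, hk₀'⟩ := Finset.exists_mem_notMem_of_card_lt_card
    (s := {k₁, k₂}) (t := S) (lt_of_le_of_lt Finset.card_le_two (by omega))
  simp only [Finset.mem_insert, Finset.mem_singleton, not_or] at hk₀'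
  obtain ⟨c, T, hTc, hk₁T, hk₂T, hc⟩ : ∃ (c : Fin n) (T : Finset (Fin n)), T.card ≤ 2 ∧ k₁ ∉ T ∧
      k₂ ∉ T ∧ ∀ l, l ∉ T → h⁻¹ (e c) l = 0 := by
    rcases hshape k₀ hk₀ with ⟨j, s, hj⟩ | ⟨a', b', hab', -, hsq', ha', hz'⟩
    · refine ⟨j, {k₀}, by simp, by simp [Ne.symm hk₀'.1], by simp [Ne.symm hk₀'.2], fun l hl => ?_⟩
      have hs : s * s = 1 := axis_sq (by rw [hh, e_dot_self]) hj
      have : h⁻¹ (e j) = s • e k₀ := by
        apply h.injective
        rw [show h (h⁻¹ (e j)) = e j from LinearEquiv.apply_symm_apply h _, map_smul, hj, smul_smul,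
          hs, one_smul]
      rw [this, Pi.smul_apply, e_ne (by simpa using hl), smul_zero]
    · obtain ⟨k₀₂, -, -, hne, -, -, hxa', -⟩ := diag_coord hL.two hh S hshape hout hk₀ hab' hz' hsq'
      have hout' : ∀ m, (m = k₀ ∨ m = k₀₂) → m ≠ k₁ ∧ m ≠ k₂ := by
        have hza : a' ≠ a ∧ a' ≠ b :=
          ⟨fun he => ha' (he ▸ (hrest k₀ hk₀'.1 hk₀'.2).1),
            fun he => ha' (he ▸ (hrest k₀ hk₀'.1 hk₀'.2).2)⟩
        rintro m (rfl | rfl)
        · exact hk₀'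
        · exact ⟨fun he => hne (he ▸ hz a' hza.1 hza.2), fun he => hne (he ▸ hz₂ a' hza.1 hza.2)⟩
      refine ⟨a', {k₀, k₀₂}, Finset.card_le_two, ?_, ?_, fun l hl => ?_⟩
      · simp only [Finset.mem_insert, Finset.mem_singleton, not_or]
        exact ⟨Ne.symm hk₀'.1, Ne.symm (hout' _ (Or.inr rfl)).1⟩
      · simp only [Finset.mem_insert, Finset.mem_singleton, not_or]
        exact ⟨Ne.symm hk₀'.2, Ne.symm (hout' _ (Or.inr rfl)).2⟩
      · simp only [Finset.mem_insert, Finset.mem_singleton, not_or] at hl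
        rw [hxa']; simp [e_ne hl.1, e_ne hl.2]
  obtain ⟨m, hm, hm'⟩ := Finset.exists_mem_notMem_of_card_lt_card
    (s := {k₁, k₂} ∪ T) (t := S) (lt_of_le_of_lt ((Finset.card_union_le _ _).trans
      (Nat.add_le_add Finset.card_le_two hTc)) (by omega))
  obtain ⟨r, -, hr'⟩ := Finset.exists_mem_notMem_of_card_lt_card
    (s := insert m ({k₁, k₂} ∪ T)) (t := S) (lt_of_le_of_lt ((Finset.card_insert_le _ _).trans
      (Nat.add_le_add_right ((Finset.card_union_le _ _).trans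
        (Nat.add_le_add Finset.card_le_two hTc)) 1)) (by omega))
  simp only [Finset.mem_insert, Finset.mem_singleton, Finset.mem_union, not_or] at hm' hr'
  set σ := Equiv.swap k₁ r * Equiv.swap k₁ m with hσ
  have hσs : Equiv.Perm.sign σ = 1 := by
    rw [hσ, map_mul, Equiv.Perm.sign_swap (Ne.symm hr'.2.1.1), Equiv.Perm.sign_swap (Ne.symm hm'.1.1)]
    rfl
  have hσ1 : σ k₁ = m := by
    rw [hσ, Equiv.Perm.mul_apply, Equiv.swap_apply_left,
      Equiv.swap_apply_of_ne_of_ne hm'.1.1 (Ne.symm hr'.1)]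
  have hσfix : ∀ l, l ≠ k₁ → l ≠ m → l ≠ r → σ l = l := fun l h1 h3 h5 => by
    rw [hσ, Equiv.Perm.mul_apply, Equiv.swap_apply_of_ne_of_ne h1 h3,
      Equiv.swap_apply_of_ne_of_ne h1 h5]
  refine ⟨h * P σ * h⁻¹, L.mul_mem (L.mul_mem hmem (hL.perm σ hσs)) (L.inv_mem hmem), ⟨c, ?_⟩, ?_⟩
  · rw [LinearEquiv.mul_apply, LinearEquiv.mul_apply]
    have : P σ (h⁻¹ (e c)) = h⁻¹ (e c) := by
      ext l
      rw [P_apply]
      by_cases hl : l ∈ T
      · have hs : σ.symm l = l := by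
          rw [Equiv.symm_apply_eq, hσfix l (fun he => hk₁T (he ▸ hl)) (fun he => hm'.2 (he ▸ hl))
            (fun he => hr'.2.2 (he ▸ hl))]
        rw [hs]
      · rw [hc l hl, hc]
        intro hl'
        have hfix := hσfix (σ.symm l) (fun he => hk₁T (he ▸ hl')) (fun he => hm'.2 (he ▸ hl'))
          (fun he => hr'.2.2 (he ▸ hl'))
        rw [Equiv.apply_symm_apply] at hfix
        exact hl (hfix ▸ hl')
    rw [this]
    exact LinearEquiv.apply_symm_apply h _
  · have hma := hrest m hm'.1.1 hm'.1.2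
    have hq : (h * P σ * h⁻¹ : (Fin n → F) ≃ₗ[F] (Fin n → F)) (e a) = h (e k₁) a • h (e m) + h (e k₂) a • h (e k₂) := by
      rw [LinearEquiv.mul_apply, LinearEquiv.mul_apply, hxa, map_add, map_smul, map_smul, P_e, P_e,
        hσ1, hσfix k₂ hk₂ (Ne.symm hm'.1.2) (Ne.symm hr'.2.1.2), map_add, map_smul, map_smul]
    obtain ⟨l, hl⟩ : ∃ l, h (e m) l ≠ 0 := by
      by_contra hc
      push Not at hc
      exact e_ne_zero (F := F) m (h.injective (by rw [map_zero]; exact funext hc))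
    have hla : l ≠ a := fun he => hl (he ▸ hma.1)
    have hlb : l ≠ b := fun he => hl (he ▸ hma.2)
    refine ⟨a, a, b, l, hab, Ne.symm hla, Ne.symm hlb, ?_, ?_, ?_⟩ <;> rw [hq] <;>
      simp only [Pi.add_apply, Pi.smul_apply, smul_eq_mul, hma.1, hma.2, hz₂ l hla hlb, mul_zero,
        zero_add, add_zero]
    · exact mul_ne_zero hk₂a hk₂a
    · exact mul_ne_zero hk₂a hk₂b
    · exact mul_ne_zero ha0 hl

/-- **Block lemma**, weak form. -/
theorem Ctx.exists_fix_not_mono {L : Subgroup ((Fin n → F) ≃ₗ[F] (Fin n → F))} (hL : Ctx L)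
    {h : ((Fin n → F) ≃ₗ[F] (Fin n → F))} (hmem : h ∈ L)
    (S : Finset (Fin n)) (hS : 6 ≤ S.card)
    (hshape : ∀ k ∈ S, IsAxis (h (e k)) ∨ IsDiag (h (e k)))
    (hout : ∀ k ∈ S, ∀ l ∉ S, ∀ i, h (e k) i ≠ 0 → h (e l) i = 0)
    {k₁ : Fin n} (hk₁ : k₁ ∈ S) (hdiag : IsDiag (h (e k₁))) :
    ∃ q ∈ L, (∃ c, q (e c) = e c) ∧ ¬ IsMono q := by
  obtain ⟨q, hq, hc, i, i₁, i₂, i₃, h12, -, -, h1, h3, -⟩ :=
    hL.exists_fix_wide hmem S hS hshape hout hk₁ hdiag
  refine ⟨q, hq, hc, fun hmono => h12 ?_⟩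
  obtain ⟨j, s, hj⟩ := hmono i
  rw [hj] at h1 h3
  exact (by_contra fun hne => h1 (by rw [Pi.smul_apply, e_ne hne, smul_zero]) : i₁ = j).trans
    (by_contra fun hne => h3 (by rw [Pi.smul_apply, e_ne hne, smul_zero]) : i₂ = j).symm

end Cfsg.Agent.OmegaTen.Mono
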