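import Cfsg.Agent.Lib.OmegaTen.Mono.Coord

/-!
The engine: a non-monomial element makes every unit vector paired.
-/

set_option autoImplicit false

namespace Cfsg.Agent.OmegaTen.Mono

open Matrix

variable {F : Type*} [Field F] [Fintype F] {n : ℕ} {p : ℕ} [Fact p.Prime]

/-- Some coordinate plane has all its units paired. -/
def Plane (L : Subgroup ((Fin n → F) ≃ₗ[F] (Fin n → F))) : Prop :=
  ∃ a b : Fin n, a ≠ b ∧ ∀ α β : F, α * α + β * β = 1 → InY L (α • e a + β • e b)

theorem natCast_ne (hF : Fintype.card F = p) {m : ℕ} (hm : ¬ p ∣ m) : (m : F) ≠ 0 := by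
  haveI : CharP F p := by
    obtain ⟨q, hq⟩ := CharP.exists F
    obtain ⟨k, hqp, hk⟩ := FiniteField.card F q
    rw [hF] at hk
    have hp : p.Prime := Fact.out
    have : q = p := (Nat.prime_dvd_prime_iff_eq hqp hp).mp (hk ▸ dvd_pow_self q k.ne_zero)
    exact this ▸ hq
  exact fun h => hm ((CharP.cast_eq_zero_iff F p m).mp h)

theorem numeral_ne (hF : Fintype.card F = p) {m : ℕ} [m.AtLeastTwo] (hm : ¬ p ∣ (OfNat.ofNat m : ℕ)) :
    (OfNat.ofNat m : F) ≠ 0 := by
  have := natCast_ne (F := F) hF hm
  rwa [Nat.cast_ofNat] at this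

theorem exists_badset : ∃ V : Finset F, V.card ≤ 5 ∧ ∀ s : F, ¬ Good s → s ∈ V := by
  classical
  by_cases hr : ∃ φ : F, φ * φ - 3 * φ + 1 = 0
  · obtain ⟨φ, hφ⟩ := hr
    refine ⟨{0, 1, 2, φ, 3 - φ}, Finset.card_le_five, fun s hs => ?_⟩
    simp only [Finset.mem_insert, Finset.mem_singleton]
    by_contra hno
    push Not at hno
    refine hs (Or.inr ⟨hno.1, hno.2.1, hno.2.2.1, fun h0 => ?_⟩)
    rcases mul_eq_zero.mp (show (s - φ) * (s + φ - 3) = 0 by linear_combination h0 - hφ) with h | h
    · exact hno.2.2.2.1 (sub_eq_zero.mp h)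
    · exact hno.2.2.2.2 (by linear_combination h)
  · push Not at hr
    refine ⟨{0, 1, 2}, le_trans Finset.card_le_three (by norm_num), fun s hs => ?_⟩
    simp only [Finset.mem_insert, Finset.mem_singleton]
    by_contra hno
    push Not at hno
    exact hs (Or.inr ⟨hno.1, hno.2.1, hno.2.2, hr s⟩)

namespace Ctx

variable {L : Subgroup ((Fin n → F) ≃ₗ[F] (Fin n → F))} (h : Ctx L)
variable (hF : Fintype.card F = p) (hp2 : p ≠ 2)

include h

omit [Fact p.Prime] in
theorem four_ne : (4 : F) ≠ 0 := by
  rw [show (4 : F) = 2 * 2 by norm_num]; exact mul_ne_zero h.two h.two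

omit [Fact p.Prime] in
/-- Only bad values leave an exchange possible. -/
theorem inY_swap_of_bad {y : Fin n → F} (hy : InY L y) {a d : Fin n} (hd : y d = 0) (had : a ≠ d)
    (hbad : ∀ i, y i ≠ 0 → ¬ Good (4 * (y i * y i))) :
    InY L (y - y a • e a + y a • e d) := by
  classical
  obtain ⟨V, hV, hmem⟩ := exists_badset (F := F)
  refine h.inY_swap_of_values hy hd had (insert 0 (V.image fun s => s / 4))
    ((Finset.card_insert_le _ _).trans (Nat.succ_le_of_lt (Nat.lt_of_le_of_lt
      Finset.card_image_le (by omega)))) fun i _ _ => ?_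
  rw [Finset.mem_insert, Finset.mem_image]
  by_cases hi : y i = 0
  · exact Or.inl (by rw [hi, mul_zero])
  · exact Or.inr ⟨_, hmem _ (hbad i hi), by rw [mul_div_cancel_left₀ _ h.four_ne]⟩

include hF hp2

theorem plane_of_good (h3 : (3 : F) ≠ 0) {y : Fin n → F} (hy : InY L y) {a d : Fin n}
    (hd : y d = 0) (ha : y a ≠ 0) (hg : Good (4 * (y a * y a)))
    (hb : ∃ b, b ≠ a ∧ y b ≠ 0) : Plane L := by
  classical
  have had : a ≠ d := fun e1 => ha (e1 ▸ hd)
  by_cases hex : ∃ b, b ≠ a ∧ y b ≠ 0 ∧ 1 - y a * y a - y b * y b ≠ 0 ∧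
      1 - y a * y a - y b * y b ≠ 1
  · obtain ⟨b, hba, hyb, hρ, hρ1⟩ := hex
    refine ⟨a, b, Ne.symm hba, fun α β hu => ?_⟩
    have := h.unit_A hF hp2 hy (Ne.symm hba) hyb hg hρ hρ1 (α := α) (β := β) (γ := 0)
      (by linear_combination hu)
    simpa using this
  push Not at hex
  by_cases hq : y a * y a = 1
  · obtain ⟨b, hba, hyb⟩ := hb
    have hb1 : y b * y b = -1 := by
      have := hex b hba hyb (by
        rw [hq, sub_self, zero_sub]; exact neg_ne_zero.mpr (mul_ne_zero hyb hyb))
      linear_combination -this - hq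
    have h4 := h.four_ne
    have hza : turn y a a * turn y a a = 1 := by
      rw [turn_self, hq]; ring
    have hzb : turn y a b * turn y a b = -4 := by
      rw [turn_other y hba]
      linear_combination 4 * (y b * y b) * hq + 4 * hb1
    refine ⟨a, b, Ne.symm hba, fun α β hu => ?_⟩
    have := h.unit_A hF hp2 (h.inY_turn hy a) (Ne.symm hba)
      (fun h0 => h4 (by rw [h0, mul_zero] at hzb; linear_combination hzb))
      (Or.inl (by rw [hza, mul_one]))
      (by rw [hza, hzb]; intro h0; exact h4 (by linear_combination h0))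
      (by rw [hza, hzb]; intro h0; exact h3 (by linear_combination h0))
      (α := α) (β := β) (γ := 0) (by linear_combination hu)
    simpa using this
  have hρ : 1 - y a * y a ≠ 0 := fun h0 => hq (by linear_combination -h0)
  have hy' := h.inY_swap_of_values hy hd had {0, 1 - y a * y a, -(y a * y a)}
    (le_trans Finset.card_le_three (by norm_num)) fun i hia _ => by
      simp only [Finset.mem_insert, Finset.mem_singleton]
      by_cases hi : y i = 0
      · exact Or.inl (by rw [hi, mul_zero])
      by_cases h0 : 1 - y a * y a - y i * y i = 0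
      · exact Or.inr (Or.inl (by linear_combination -h0))
      · exact Or.inr (Or.inr (by linear_combination -(hex i hia hi h0)))
  exact ⟨a, d, had, fun α β hu => h.unit_B hF hp2 hy had hd hy' ha hρ (Or.inl hg) hu⟩

/-- The large case `p ≥ 11`. -/
theorem plane_of_rough (hp : 11 ≤ p) {y : Fin n → F} (hy : InY L y) {a b d : Fin n} (hab : a ≠ b)
    (hd : y d = 0) (ha : y a ≠ 0) (hb : y b ≠ 0)
    (hr : y a * y a ≠ y b * y b ∨ ∃ c, c ≠ a ∧ c ≠ b ∧ y c ≠ 0) : Plane L := by
  classical
  have hn := h.dim
  have h2 := h.two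
  have h4 := h.four_ne
  have hsmall : ∀ {m : ℕ}, 0 < m → m < 11 → ¬ p ∣ m := fun h0 hm hdvd =>
    absurd (Nat.le_of_dvd h0 hdvd) (by omega)
  have h3 : (3 : F) ≠ 0 := numeral_ne hF (hsmall (by norm_num) (by norm_num))
  have h5 : (5 : F) ≠ 0 := numeral_ne hF (hsmall (by norm_num) (by norm_num))
  by_contra hno
  -- no good coordinate, in any such vector
  have hbad : ∀ w : Fin n → F, InY L w → ∀ d', w d' = 0 → ∀ i j, i ≠ j → w i ≠ 0 → w j ≠ 0 →
      ∀ k, w k ≠ 0 → ¬ Good (4 * (w k * w k)) := by
    intro w hw d' hd' i j hij hi hj k hk hg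
    refine hno (h.plane_of_good hF hp2 h3 hw hd' hk hg ?_)
    by_cases hki : k = i
    · exact ⟨j, fun e1 => hij (hki.symm.trans e1.symm), hj⟩
    · exact ⟨i, fun e1 => hki e1.symm, hi⟩
  have hyB := hbad y hy d hd a b hab ha hb
  have had : ∀ {i}, y i ≠ 0 → i ≠ d := fun hi e1 => hi (e1 ▸ hd)
  by_cases h11 : p = 11
  · -- eleven
    subst h11
    have e11 : (11 : F) = 0 := by
      have := FiniteField.cast_card_eq_zero F
      rw [hF] at this; exact_mod_cast this
    have hval : ∀ i, y i ≠ 0 → 4 * (y i * y i) = 1 ∨ 4 * (y i * y i) = 5 ∨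
        4 * (y i * y i) = 9 := by
      intro i hi
      have hb0 := hyB i hi
      set s := 4 * (y i * y i) with hs
      have hpow : s ^ 5 = 1 := by
        have h10 := FiniteField.pow_card_sub_one_eq_one (2 * y i) (mul_ne_zero h2 hi)
        rw [hF] at h10
        rw [← h10, hs]; norm_num; ring
      by_contra hcon
      push Not at hcon
      refine hb0 (Or.inr ⟨fun h0 => ?_, hcon.1, fun h0 => ?_, fun h0 => ?_⟩)
      · rw [h0] at hpow; norm_num at hpow
      · rw [h0] at hpow
        exact numeral_ne (F := F) hF (m := 31) (by norm_num) (by linear_combination hpow)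
      · rcases mul_eq_zero.mp (show (s - 5) * (s - 9) = 0 by
          linear_combination h0 - (s - 4) * e11) with h' | h'
        · exact hcon.2.1 (sub_eq_zero.mp h')
        · exact hcon.2.2 (sub_eq_zero.mp h')
    -- a one forbids further ones and fives
    have hone : ∀ i k, i ≠ k → y i ≠ 0 → y k ≠ 0 → 4 * (y i * y i) = 1 →
        4 * (y k * y k) ≠ 1 ∧ 4 * (y k * y k) ≠ 5 := by
      intro i k hik hi hk hsi
      have hid := had hi
      have hkd := had hk
      have hy' := h.inY_swap_of_bad hy hd hid hyB
      have hw := h.inY_twist hy hd hy'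
      set w := twist y i d with hwdef
      have hq : y i * y i = 3 := by linear_combination 3 * hsi - (y i * y i) * e11
      have hwi : w i * w i = 3 := by rw [hwdef, twist_self y hid, hq]
      have hwd : w d * w d = 4 := by
        rw [hwdef, twist_zero hid hd]
        linear_combination 4 * (y i * y i + 3 - 2) * (y i * y i) * hq + 16 * hq + 4 * e11
      have hwk : w k * w k = 3 * (y k * y k) := by
        rw [hwdef, twist_other y (Ne.symm hik) hkd]
        linear_combination 4 * (y i * y i + 2) * (y k * y k) * hq + 2 * (y k * y k) * e11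
      constructor <;> intro hsk
      · refine hno ⟨k, d, hkd, fun α β hu => ?_⟩
        have hwk1 : w k * w k = 9 := by
          linear_combination hwk + 9 * hsk - 3 * (y k * y k) * e11
        have := h.unit_A hF hp2 hw hkd (fun h0 => by
            rw [h0, mul_zero] at hwd; exact h4 hwd.symm)
          (Or.inr (by
            rw [show 4 * (w k * w k) = 3 by linear_combination 4 * hwk1 + 3 * e11]
            exact ⟨h3, fun h0 => h2 (by linear_combination h0),
              fun h0 => one_ne_zero (α := F) (by linear_combination h0),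
              fun h0 => one_ne_zero (α := F) (by linear_combination h0)⟩))
          (fun h0 => one_ne_zero (α := F) (by linear_combination -h0 - hwk1 - hwd - e11))
          (fun h0 => h2 (by linear_combination -h0 - hwk1 - hwd - e11))
          (α := α) (β := β) (γ := 0) (by linear_combination hu)
        simpa using this
      · refine hno ⟨k, i, Ne.symm hik, fun α β hu => ?_⟩
        have hwk1 : w k * w k = 1 := by
          linear_combination hwk + 9 * hsk - 3 * (y k * y k) * e11 + 4 * e11
        have := h.unit_A hF hp2 hw (Ne.symm hik) (fun h0 => by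
            rw [h0, mul_zero] at hwi; exact h3 hwi.symm)
          (Or.inl (by rw [hwk1, mul_one]))
          (fun h0 => h3 (by linear_combination -h0 - hwk1 - hwi))
          (fun h0 => h4 (by linear_combination -h0 - hwk1 - hwi))
          (α := α) (β := β) (γ := 0) (by linear_combination hu)
        simpa using this
    -- equal roots give a good value
    have hdist : ∀ i k, i ≠ k → y i ≠ 0 → y k ≠ 0 → 4 * (y i * y i) ≠ 4 * (y k * y k) := by
      intro i k hik hi hk heq
      rcases hval i hi with hs | hs
      · exact (hone i k hik hi hk hs).1 (heq.symm.trans hs)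
      refine hno (h.plane_of_good hF hp2 h3 (h.inY_turn hy i) (a := k) (d := d) ?_ ?_ ?_ ⟨i, hik, ?_⟩)
      · rw [turn_other y (Ne.symm (had hi)), hd, mul_zero, neg_zero]
      · rw [turn_other y (Ne.symm hik)]
        exact neg_ne_zero.mpr (mul_ne_zero (mul_ne_zero h2 hi) hk)
      · have e1 : 4 * (turn y i k * turn y i k) =
            (4 * (y i * y i)) * (4 * (y i * y i)) := by
          rw [turn_other y (Ne.symm hik)]
          linear_combination -(4 * (y i * y i)) * heq
        rw [e1]
        rcases hs with hs | hs <;> rw [hs]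
        · refine Or.inr ⟨?_, ?_, ?_, ?_⟩ <;> intro h0
          · exact h3 (by linear_combination h0 - 2 * e11)
          · exact h2 (by linear_combination h0 - 2 * e11)
          · exact one_ne_zero (α := F) (by linear_combination h0 - 2 * e11)
          · exact one_ne_zero (α := F) (by linear_combination h0 - 50 * e11)
        · exact Or.inl (by linear_combination 7 * e11)
      · rw [turn_self]
        intro h0
        rcases hs with hs | hs
        · exact h3 (by linear_combination -2 * h0 - hs)
        · exact numeral_ne (F := F) hF (m := 7) (by norm_num) (by linear_combination -2 * h0 - hs)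
    have honly : ∀ i, y i ≠ 0 → i = a ∨ i = b := by
      intro i hi
      by_contra hcon
      push Not at hcon
      have d1 := hdist a b hab ha hb
      have d2 := hdist a i (Ne.symm hcon.1) ha hi
      have d3 := hdist b i (Ne.symm hcon.2) hb hi
      -- three different values: a one and a five
      rcases hval a ha with ea | ea | ea <;> rcases hval b hb with eb | eb | eb <;>
        rcases hval i hi with ei | ei | ei <;>
        first
        | exact d1 (ea.trans eb.symm)
        | exact d2 (ea.trans ei.symm)
        | exact d3 (eb.trans ei.symm)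
        | exact (hone a b hab ha hb ea).2 eb
        | exact (hone b a (Ne.symm hab) hb ha eb).2 ea
        | exact (hone a i (Ne.symm hcon.1) ha hi ea).2 ei
        | exact (hone i a hcon.1 hi ha ei).2 ea
        | exact (hone b i (Ne.symm hcon.2) hb hi eb).2 ei
        | exact (hone i b hcon.2 hi hb ei).2 eb
    have hsum : y a * y a + y b * y b = 1 := by
      rw [← dot_two hab (fun i hia hib => by_contra fun hi => (honly i hi).elim hia hib), hy.1]
    have hsum4 : 4 * (y a * y a) + 4 * (y b * y b) = 4 := by linear_combination 4 * hsum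
    have d1 := hdist a b hab ha hb
    rcases hval a ha with ea | ea | ea <;> rcases hval b hb with eb | eb | eb <;>
      first
      | exact d1 (ea.trans eb.symm)
      | exact (hone a b hab ha hb ea).2 eb
      | exact (hone b a (Ne.symm hab) hb ha eb).2 ea
      | (rw [ea, eb] at hsum4
         first
         | exact h5 (by linear_combination -hsum4 + e11)
         | exact one_ne_zero (α := F) (by linear_combination -hsum4 + e11))
  · -- other primes
    have e11 : (11 : F) ≠ 0 := numeral_ne hF (fun hdvd => h11
      ((Nat.prime_dvd_prime_iff_eq Fact.out (by norm_num)).mp hdvd))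
    have noOne : ∀ w : Fin n → F, InY L w → ∀ d', w d' = 0 →
        (∀ i, w i ≠ 0 → ¬ Good (4 * (w i * w i))) → ∀ i, w i ≠ 0 → 4 * (w i * w i) ≠ 1 := by
      intro w hw d' hd' hwB i hi hs
      have hid : i ≠ d' := fun e1 => hi (e1 ▸ hd')
      have hρ : 1 - w i * w i ≠ 0 := fun h0 => h3 (by linear_combination hs + 4 * h0)
      refine hno ⟨i, d', hid, fun α β hu => h.unit_B hF hp2 hw hid hd'
        (h.inY_swap_of_bad hw hd' hid hwB) hi hρ (Or.inr (Or.inr ?_)) hu⟩
      set T := 4 * ((1 - w i * w i) * (1 - w i * w i)) with hT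
      have h9 : 4 * T = 9 := by
        rw [hT]; linear_combination (4 * (w i * w i) - 7) * hs
      refine ⟨?_, ?_, ?_, ?_⟩ <;> intro h0
      · exact mul_ne_zero h3 h3 (by linear_combination 4 * h0 - h9)
      · exact h5 (by linear_combination 4 * h0 - h9)
      · exact one_ne_zero (α := F) (by linear_combination 4 * h0 - h9)
      · exact e11 (by linear_combination -16 * h0 + (4 * T - 3) * h9)
    have hy1 := noOne y hy d hd hyB
    have hcase : ∀ i, y i ≠ 0 → 4 * (y i * y i) = 2 ∨
        (4 * (y i * y i)) * (4 * (y i * y i)) - 3 * (4 * (y i * y i)) + 1 = 0 := by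
      intro i hi
      by_contra hcon
      push Not at hcon
      exact hyB i hi (Or.inr ⟨mul_ne_zero h4 (mul_ne_zero hi hi), hy1 i hi, hcon.1, hcon.2⟩)
    -- a root `s` beside a value `t`
    have key : ∀ i k, i ≠ k → y i ≠ 0 → y k ≠ 0 →
        (4 * (y i * y i)) * (4 * (y i * y i)) - 3 * (4 * (y i * y i)) + 1 ≠ 0 := by
      intro i k hik hi hk hs
      set s := 4 * (y i * y i) with hsdef
      set t := 4 * (y k * y k) with htdef
      set z := turn y i with hzdef
      have hzd : z d = 0 := by rw [hzdef, turn_other y (Ne.symm (had hi)), hd, mul_zero, neg_zero]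
      have hzk : z k ≠ 0 := by
        rw [hzdef, turn_other y (Ne.symm hik)]
        exact neg_ne_zero.mpr (mul_ne_zero (mul_ne_zero h2 hi) hk)
      have hzi : z i ≠ 0 := by
        rw [hzdef, turn_self]
        intro h0
        have e2 : s = 2 := by rw [hsdef]; linear_combination -2 * h0
        exact one_ne_zero (α := F) (by rw [e2] at hs; linear_combination -hs)
      have hzB := hbad z (h.inY_turn hy i) d hzd k i (Ne.symm hik) hzk hzi
      have hst : 4 * (z k * z k) = s * t := by
        rw [hzdef, hsdef, htdef, turn_other y (Ne.symm hik)]; ring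
      have hne1 := noOne z (h.inY_turn hy i) d hzd hzB k hzk
      have hb0 := hzB k hzk
      rw [hst] at hne1 hb0
      have hgood : s * t = 2 ∨ (s * t) * (s * t) - 3 * (s * t) + 1 = 0 := by
        by_contra hcon
        push Not at hcon
        exact hb0 (Or.inr ⟨mul_ne_zero (mul_ne_zero h4 (mul_ne_zero hi hi))
          (mul_ne_zero h4 (mul_ne_zero hk hk)), hne1, hcon.1, hcon.2⟩)
      rcases hcase k hk with ht | ht
      · rw [← htdef] at ht
        rw [ht] at hgood
        rcases hgood with h0 | h0
        · have : s = 1 := mul_right_cancel₀ h2 (by rw [h0, one_mul])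
          exact one_ne_zero (α := F) (by rw [this] at hs; linear_combination -hs)
        · have e2 : 2 * s = 1 := by
            refine sub_eq_zero.mp ((mul_eq_zero.mp (show 3 * (2 * s - 1) = 0 by
              linear_combination h0 - 4 * hs)).resolve_left h3)
          exact one_ne_zero (α := F) (by linear_combination (2 * s - 5) * e2 - 4 * hs)
      · rw [← htdef] at ht
        rcases mul_eq_zero.mp (show (t - s) * (t + s - 3) = 0 by linear_combination ht - hs) with
          e1 | e1
        · rw [sub_eq_zero.mp e1] at hgood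
          rcases hgood with h0 | h0
          · have : s = 1 := mul_left_cancel₀ h3 (by linear_combination h0 - hs)
            exact one_ne_zero (α := F) (by rw [this] at hs; linear_combination -hs)
          · have e2 : 3 * s = 1 := mul_left_cancel₀ h4
              (by linear_combination h0 - (s * s + 3 * s + 5) * hs)
            exact one_ne_zero (α := F) (by linear_combination 9 * hs - (3 * s - 8) * e2)
        · exact hne1 (by linear_combination -hs + s * e1)
    have htwo : ∀ i, y i ≠ 0 → 4 * (y i * y i) = 2 := fun i hi => (hcase i hi).resolve_right <| by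
      by_cases hia : i = a
      · exact key i b (hia ▸ hab) hi hb
      · exact key i a hia hi ha
    obtain ⟨c, hca, hcb, hc⟩ := hr.resolve_left fun hne =>
      hne (mul_left_cancel₀ h4 ((htwo a ha).trans (htwo b hb).symm))
    refine hno (h.plane_of_good hF hp2 h3 (h.inY_turn hy a) (a := b) (d := d) ?_ ?_ ?_ ⟨c, hcb, ?_⟩)
    · rw [turn_other y (Ne.symm (had ha)), hd, mul_zero, neg_zero]
    · rw [turn_other y (Ne.symm hab)]
      exact neg_ne_zero.mpr (mul_ne_zero (mul_ne_zero h2 ha) hb)
    · refine Or.inl ?_
      rw [turn_other y (Ne.symm hab)]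
      linear_combination (4 * (y b * y b)) * htwo a ha + 2 * htwo b hb
    · rw [turn_other y hca]
      exact neg_ne_zero.mpr (mul_ne_zero (mul_ne_zero h2 ha) hc)

theorem units_of_plane (hp : 11 ≤ p) (hP : Plane L) {v : Fin n → F} (hv : v ⬝ᵥ v = 1) :
    InY L v := by
  have hn := h.dim
  have h2 := h.two
  have hsmall : ∀ {m : ℕ}, 0 < m → m < 11 → ¬ p ∣ m := fun h0 hm hdvd =>
    absurd (Nat.le_of_dvd h0 hdvd) (by omega)
  have h3 : (3 : F) ≠ 0 := numeral_ne hF (hsmall (by norm_num) (by norm_num))
  have h5 : (5 : F) ≠ 0 := numeral_ne hF (hsmall (by norm_num) (by norm_num))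
  have h7 : (7 : F) ≠ 0 := numeral_ne hF (hsmall (by norm_num) (by norm_num))
  obtain ⟨a, b, hab, hP⟩ := hP
  -- either order of `3/5`, `4/5`
  have main : ∀ α β : F, α * α + β * β = 1 → α ≠ 0 → β ≠ 0 → Good (4 * (α * α)) → InY L v := by
    intro α β hu hα hβ hg
    set y : Fin n → F := α • e a + β • e b with hy
    have hya : y a = α := by simp [hy, e_same, e_ne hab]
    have hyb : y b = β := by simp [hy, e_same, e_ne (Ne.symm hab)]
    have hy0 : ∀ i, i ≠ a → i ≠ b → y i = 0 := fun i h1 h4 => by simp [hy, e_ne h1, e_ne h4]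
    have hyY : InY L y := hP α β hu
    obtain ⟨d, hd⟩ := exists_fresh ({a, b} : Finset (Fin n))
      (lt_of_le_of_lt Finset.card_le_two (by omega))
    obtain ⟨e₁, he₁⟩ := exists_fresh ({a, b, d} : Finset (Fin n))
      (lt_of_le_of_lt Finset.card_le_three (by omega))
    obtain ⟨e₂, he₂⟩ := exists_fresh ({a, b, d, e₁} : Finset (Fin n))
      (lt_of_le_of_lt Finset.card_le_four (by omega))
    simp only [Finset.mem_insert, Finset.mem_singleton, not_or] at hd he₁ he₂
    have hyd : y d = 0 := hy0 d hd.1 hd.2
    have hy' := h.inY_swap hyY hyd (Ne.symm hd.1) (Ne.symm he₂.2.2.2) he₁.1 he₁.2.2 he₂.1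
      he₂.2.2.1 (by rw [hy0 e₁ he₁.1 he₁.2.1, hy0 e₂ he₂.1 he₂.2.1])
    have hρ : 1 - y a * y a ≠ 0 := by
      rw [hya]; exact fun h0 => mul_ne_zero hβ hβ (by linear_combination hu + h0)
    have hT := h.transit_B hF hp2 hyY (Ne.symm hd.1) hyd hy' (hya ▸ hα) hρ
      (Or.inl (by rw [hya]; exact hg))
    refine h.all_units_of_coordTrans h3 (a₀ := a) (b₀ := d) (c₀ := b) (Ne.symm hd.1) hab hd.2
      (coordTrans_of_frame hT (Ne.symm hd.1) hab hd.2 hβ rfl rfl ?_) v hv
    show y - y a • e a = β • e b
    rw [hya, hy, add_sub_cancel_left]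
  have hu : (3 / 5 : F) * (3 / 5) + 4 / 5 * (4 / 5) = 1 := by field_simp; ring
  have hα : (3 / 5 : F) ≠ 0 := div_ne_zero h3 h5
  have hβ : (4 / 5 : F) ≠ 0 := div_ne_zero h.four_ne h5
  by_cases hg : Good (4 * ((3 / 5 : F) * (3 / 5)))
  · exact main _ _ hu hα hβ hg
  refine main _ _ (by linear_combination hu) hβ hα ?_
  set s := 4 * ((3 / 5 : F) * (3 / 5)) with hs
  set t := 4 * ((4 / 5 : F) * (4 / 5)) with ht
  have hst : s + t = 4 := by rw [hs, ht]; linear_combination 4 * hu
  have ht0 : t ≠ 0 := mul_ne_zero h.four_ne (mul_ne_zero hβ hβ)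
  have hne : s ≠ 2 := fun h0 => h7 (by
    have : (25 : F) * s = 36 := by rw [hs]; field_simp; ring
    rw [h0] at this
    exact (mul_eq_zero.mp (show (2 : F) * 7 = 0 by linear_combination this)).resolve_left h2)
  by_contra htB
  unfold Good at hg htB
  push Not at hg htB
  by_cases e1 : s = 1
  · exact one_ne_zero (α := F) (by
      linear_combination htB.2 ht0 (fun h0 => h2 (by linear_combination h0 + e1 - hst))
        (fun h0 => one_ne_zero (α := F) (by linear_combination h0 + e1 - hst)) - t * (hst - e1))
  have hroot := hg.2 (mul_ne_zero h.four_ne (mul_ne_zero hα hα)) e1 hne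
  have hr' := htB.2 ht0 (fun h0 => one_ne_zero (α := F) (by
      linear_combination hroot - s * (hst - h0))) (fun h0 => hne (by linear_combination hst - h0))
  exact hne (mul_left_cancel₀ h2 (by linear_combination hroot - hr' + (t - s + 1) * hst))

end Ctx

end Cfsg.Agent.OmegaTen.Mono
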